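import Cfsg.Agent.Base.TI3.Struct
import Cfsg.Agent.Char.Induce
import Mathlib.GroupTheory.FiniteAbelian.Duality
import Mathlib.Analysis.Complex.Polynomial.Basic
import Mathlib.RingTheory.IntegralDomain

/-! The exceptional character argument for `TI3.LocalData`. -/

set_option linter.unusedSectionVars false
set_option linter.style.haveILetI false

namespace CfsgLib.Base.TI3

open Cfsg CfsgLib.Char
open scoped ComplexConjugate

universe u

section count

variable {G : Type u} [Group G] [Fintype G] [DecidableEq G]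
variable {C N : Subgroup G} {t : G} {n : ℕ}

theorem mem_N (d : LocalData C N t n) {x : G} : x ∈ N ↔ x * t = t * x := by
  rw [d.eqN]; exact Subgroup.mem_centralizer_singleton_iff

open Classical in
theorem card_out (d : LocalData C N t n) :
    (Finset.univ.filter fun u : G => u ∈ N ∧ u ∉ C).card = 2 * n := by
  have h1 : (Finset.univ.filter fun u : G => u ∈ N).card = 4 * n := by
    rw [← d.cardN, Nat.card_eq_fintype_card, Fintype.card_subtype]
  have h2 : (Finset.univ.filter fun u : G => u ∈ C).card = 2 * n := by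
    rw [← d.cardC, Nat.card_eq_fintype_card, Fintype.card_subtype]
  have h3 : (Finset.univ.filter fun u : G => u ∈ N ∧ u ∉ C) =
      (Finset.univ.filter fun u : G => u ∈ N) \ (Finset.univ.filter fun u : G => u ∈ C) := by
    ext; simp
  rw [h3, Finset.card_sdiff_of_subset, h1, h2]
  · omega
  · intro x hx; simp at hx ⊢; exact d.le hx

open Classical in
/-- the number of involutions -/
theorem card_conj [IsSimpleGroup G] (d : LocalData C N t n) :
    (Finset.univ.filter fun u : G => IsConj t u).card = 1 + 2 * n + 2 * n * (2 * n - 2) := by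
  set K := Finset.univ.filter fun u : G => IsConj t u
  set J := Finset.univ.filter fun u : G => u ∈ N ∧ u ∉ C with hJ
  set D := Finset.univ.filter fun u : G => u ∈ C ∧ u ≠ 1 ∧ u ≠ t with hD
  have hJc : J.card = 2 * n := card_out d
  have ht2 : t * t = 1 := mul_self_of_orderOf d.ord
  have htinv : t⁻¹ = t := inv_eq_of_mul_eq_one_right ht2
  have ht1 : t ≠ 1 := fun h => by have := d.ord; simp [h] at this
  have hDc : D.card = 2 * n - 2 := by
    have h2 : (Finset.univ.filter fun u : G => u ∈ C).card = 2 * n := by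
      rw [← d.cardC, Nat.card_eq_fintype_card, Fintype.card_subtype]
    have : D = (Finset.univ.filter fun u : G => u ∈ C) \ {1, t} := by
      ext; simp [D]
    rw [this, Finset.card_sdiff_of_subset, h2, Finset.card_pair ht1.symm]
    intro x hx; simp at hx ⊢
    rcases hx with rfl | rfl
    · exact C.one_mem
    · exact d.tC
  have hK2 : ∀ u, IsConj t u → u * u = 1 := by
    intro u hu
    obtain ⟨g, rfl⟩ := isConj_iff.mp hu
    rw [show g * t * g⁻¹ * (g * t * g⁻¹) = g * (t * t) * g⁻¹ by group, ht2]; simp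
  have hexg : ∀ s ∈ J, ∃ g : G, g * t * g⁻¹ = s := fun s hs => by
    simp [J] at hs
    exact isConj_iff.mp (d.out s hs.1 hs.2).2
  choose gs hgs using hexg
  have hJK : J ⊆ K := fun u hu => by
    simp [J] at hu; simp only [K, Finset.mem_filter, Finset.mem_univ, true_and]; exact (d.out u hu.1 hu.2).2
  have htJ : t ∉ J := by simp [J, d.tC]
  have hsub : insert t J ⊆ K := Finset.insert_subset
    (Finset.mem_filter.mpr ⟨Finset.mem_univ _, IsConj.refl t⟩) hJK
  have hmain : (K \ insert t J).card = (J ×ˢ D).card := by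
    symm
    refine Finset.card_bij (fun p hp => t * (gs p.1 (Finset.mem_product.mp hp).1 * p.2 *
      (gs p.1 (Finset.mem_product.mp hp).1)⁻¹)) ?_ ?_ ?_
    · rintro ⟨s, x⟩ hp
      obtain ⟨hs, hx⟩ := Finset.mem_product.mp hp
      dsimp only at hs hx ⊢
      set g := gs s hs with hg
      have hgt : g * t * g⁻¹ = s := hgs s hs
      simp [D] at hx
      simp [J] at hs
      set y := g * x * g⁻¹ with hy
      set t' := g⁻¹ * t * g with ht'
      have hst : s * t = t * s := (mem_N d).mp hs.1
      have ht'N : t' ∈ N := by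
        rw [mem_N d, ht']
        calc g⁻¹ * t * g * t = g⁻¹ * (t * s) * g := by rw [← hgt]; group
          _ = g⁻¹ * (s * t) * g := by rw [hst]
          _ = t * (g⁻¹ * t * g) := by rw [← hgt]; group
      have ht'2 : t' * t' = 1 := by
        rw [show t' * t' = g⁻¹ * (t * t) * g by rw [ht']; group, ht2]; simp
      have ht'C : t' ∉ C := by
        intro h
        rcases d.inv2 _ h ht'2 with h1 | h1
        · apply ht1
          have e : t = g * t' * g⁻¹ := by rw [ht']; group
          rw [e, h1]; simp
        · apply hs.2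
          have : s = t := by
            rw [← hgt]
            conv_lhs => rw [← h1, ht']
            group
          rw [this]; exact d.tC
      have hinv := d.inverts t' ht'N ht'C x hx.1
      have htx : t' * x ∉ C := fun h => ht'C (by simpa using mul_mem h (inv_mem hx.1))
      have hconj := (d.out (t' * x) (mul_mem ht'N (d.le hx.1)) htx).2
      have e : t * y = g * (t' * x) * g⁻¹ := by rw [ht', hy]; group
      refine Finset.mem_sdiff.mpr ⟨?_, ?_⟩
      · simp only [K, Finset.mem_filter, Finset.mem_univ, true_and]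
        exact hconj.trans (isConj_iff.mpr ⟨g, e.symm⟩)
      · intro hin
        have hyN : y ∈ N := by
          have : t * y ∈ N := by
            rcases Finset.mem_insert.mp hin with h | h
            · rw [h]; exact d.le d.tC
            · simp [J] at h; exact h.1
          simpa [← mul_assoc, ht2] using mul_mem (d.le d.tC) this
        have h1 := (mem_N d).mp hyN
        have h2 : t' * x * t'⁻¹ = x := by
          calc t' * x * t'⁻¹ = g⁻¹ * (t * y) * t⁻¹ * g := by rw [ht', hy]; group
            _ = g⁻¹ * (y * t) * t⁻¹ * g := by rw [h1]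
            _ = x := by rw [hy]; group
        rw [hinv] at h2
        rcases d.inv2 x hx.1 (by nth_rewrite 1 [← h2]; exact inv_mul_cancel x) with h | h
        · exact hx.2.1 h
        · exact hx.2.2 h
    · rintro ⟨s, x⟩ hp ⟨s', x'⟩ hp' heq
      obtain ⟨hs, hx⟩ := Finset.mem_product.mp hp
      obtain ⟨hs', hx'⟩ := Finset.mem_product.mp hp'
      dsimp only at hs hx hs' hx' heq
      have heq' := mul_left_cancel heq
      simp [D] at hx hx'
      have hgg : (gs s' hs')⁻¹ * gs s hs ∈ N := by
        apply d.tI _ x hx.1 hx.2.1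
        have : (gs s' hs')⁻¹ * gs s hs * x * ((gs s' hs')⁻¹ * gs s hs)⁻¹ = x' := by
          rw [show (gs s' hs')⁻¹ * gs s hs * x * ((gs s' hs')⁻¹ * gs s hs)⁻¹ =
            (gs s' hs')⁻¹ * (gs s hs * x * (gs s hs)⁻¹) * gs s' hs' by group, heq']
          group
        rw [this]; exact hx'.1
      have hss : s = s' := by
        have h := (mem_N d).mp hgg
        rw [← hgs s hs, ← hgs s' hs']
        calc gs s hs * t * (gs s hs)⁻¹ =
            gs s' hs' * ((gs s' hs')⁻¹ * gs s hs * t) * (gs s hs)⁻¹ := by group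
          _ = gs s' hs' * (t * ((gs s' hs')⁻¹ * gs s hs)) * (gs s hs)⁻¹ := by rw [h]
          _ = gs s' hs' * t * (gs s' hs')⁻¹ := by group
      subst hss
      have : x = x' := by simpa using heq'
      rw [this]
    · intro v hv
      obtain ⟨hvK, hvn⟩ := Finset.mem_sdiff.mp hv
      simp only [K, Finset.mem_filter, Finset.mem_univ, true_and] at hvK
      have hv2 := hK2 v hvK
      have hvinv : v⁻¹ = v := inv_eq_of_mul_eq_one_right hv2
      have hv1 : v ≠ 1 := fun h => by
        subst h
        obtain ⟨g, hg⟩ := isConj_iff.mp hvK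
        rw [conj_eq_one_iff] at hg; exact ht1 hg
      have hvN : v ∉ N := by
        intro h
        apply hvn
        by_cases hvC : v ∈ C
        · rcases d.inv2 v hvC hv2 with h1 | h1
          · exact absurd h1 hv1
          · simp [h1]
        · simp [J, h, hvC]
      set x := t * v with hx
      have htxt : t * x * t⁻¹ = x⁻¹ := by
        rw [hx, mul_inv_rev, hvinv, htinv, ← mul_assoc, ht2, one_mul]
      have hxN : x ∉ N := fun h => hvN (by
        simpa [hx, ← mul_assoc, ht2] using mul_mem (d.le d.tC) h)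
      have hx2 : x * x ≠ 1 := by
        intro h
        apply hxN
        rw [mem_N d]
        have e : x⁻¹ = x := inv_eq_of_mul_eq_one_right h
        rw [e] at htxt
        calc x * t = t * x * t⁻¹ * t := by rw [htxt]
          _ = t * x := by group
      -- the dihedral group generated by t and v is proper
      have hH : Subgroup.closure ({t, v} : Set G) ≠ ⊤ := by
        intro htop
        apply d.cyc
        have hnorm : (Subgroup.zpowers x).Normal := by
          constructor
          intro y hy g
          have hg : g ∈ Subgroup.normalizer (Subgroup.zpowers x : Set G) := by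
            have hle : Subgroup.closure ({t, v} : Set G) ≤
                Subgroup.normalizer (Subgroup.zpowers x : Set G) := by
              rw [Subgroup.closure_le]
              have key : ∀ w : G, w * x * w⁻¹ = x⁻¹ → w * w = 1 →
                  w ∈ Subgroup.normalizer (Subgroup.zpowers x : Set G) := by
                intro w hw hw2
                rw [Subgroup.mem_normalizer_iff]
                have hh : ∀ h, h ∈ Subgroup.zpowers x → w * h * w⁻¹ ∈ Subgroup.zpowers x := by
                  intro h hh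
                  obtain ⟨j, rfl⟩ := Subgroup.mem_zpowers_iff.mp hh
                  rw [← conj_zpow, hw]
                  exact Subgroup.zpow_mem _ (inv_mem (Subgroup.mem_zpowers x)) j
                refine fun h => ⟨hh h, fun hh' => ?_⟩
                have := hh _ hh'
                have winv : w⁻¹ = w := inv_eq_of_mul_eq_one_right hw2
                rw [winv] at this
                simpa [mul_assoc, ← mul_assoc w w, hw2] using this
              rintro w (rfl | rfl)
              · exact key _ htxt ht2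
              · refine key _ ?_ hv2
                rw [hx, mul_inv_rev, hvinv, htinv]
                simp [mul_assoc, hv2]
            exact hle (htop ▸ Subgroup.mem_top g)
          exact (Subgroup.mem_normalizer_iff.mp hg y).mp hy
        haveI := hnorm
        rcases hnorm.eq_bot_or_eq_top with h | h
        · exact absurd (Subgroup.zpowers_eq_bot.mp h) (fun h1 => hx2 (by rw [h1, mul_one]))
        · intro a b
          obtain ⟨i, rfl⟩ := Subgroup.mem_zpowers_iff.mp (h ▸ Subgroup.mem_top a)
          obtain ⟨j, rfl⟩ := Subgroup.mem_zpowers_iff.mp (h ▸ Subgroup.mem_top b)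
          exact zpow_mul_comm x i j
      have hdvd := d.proper _ hH (by
        have := Subgroup.card_dvd_of_le (show Subgroup.zpowers t ≤ Subgroup.closure ({t, v} : Set G)
          from Subgroup.zpowers_le.mpr (Subgroup.subset_closure (by simp)))
        rwa [Nat.card_zpowers, d.ord] at this)
      have hxmem : x ∈ Subgroup.closure ({t, v} : Set G) :=
        mul_mem (Subgroup.subset_closure (by simp)) (Subgroup.subset_closure (by simp))
      have hx4n : x ^ (4 * n) = 1 := by
        apply orderOf_dvd_iff_pow_eq_one.mp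
        refine dvd_trans ?_ hdvd
        rw [← Subgroup.orderOf_mk x hxmem]
        exact orderOf_dvd_natCard _
      by_cases hy : x ^ 4 = 1
      · exfalso
        have hz1 : x * x * (x * x) = 1 := by rw [← hy]; simp [pow_succ, mul_assoc]
        have hz : orderOf (x * x) = 2 := orderOf_two hz1 hx2
        obtain ⟨g, hg⟩ := isConj_iff.mp (d.conjAll _ hz)
        set x' := g⁻¹ * x * g with hx'
        have hsq : x' * x' = t := by
          rw [hx', show g⁻¹ * x * g * (g⁻¹ * x * g) = g⁻¹ * (x * x) * g by group, ← hg]; group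
        have hx'N : x' ∈ N := (mem_N d).mpr (by
          have h := (mul_assoc x' x' x').symm
          rwa [hsq] at h)
        by_cases hc : x' ∈ C
        · obtain ⟨a, ha⟩ := d.pow3
          have h1 : (t : G) ∈ C := d.tC
          have hodd : Odd n := by rw [ha]; exact Odd.pow (by decide)
          have hpow : x' ^ (2 * n) = 1 := by
            have := pow_card_eq_one' (x := (⟨x', hc⟩ : C))
            rw [d.cardC] at this
            exact congrArg Subtype.val this
          rw [pow_mul, sq, hsq] at hpow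
          obtain ⟨j, hj⟩ := hodd
          rw [hj, pow_succ, pow_mul, sq, ht2, one_pow, one_mul] at hpow
          exact ht1 hpow
        · exact ht1 (hsq ▸ (d.out x' hx'N hc).1)
      · obtain ⟨g, hg⟩ := d.contains3 (x ^ 4) (by rw [← pow_mul, hx4n])
        set x' := g⁻¹ * x * g with hx'
        set t' := g⁻¹ * t * g with ht'
        set y' := g⁻¹ * x ^ 4 * g with hy'
        have hy'C : y' ∈ C := hg
        have hy'1 : y' ≠ 1 := fun h => hy (by
          have e : x ^ 4 = g * y' * g⁻¹ := by rw [hy']; group
          rw [e, h]; simp)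
        have hx'N : x' ∈ N := d.tI x' y' hy'C hy'1 (by
          rw [show x' * y' * x'⁻¹ = y' by rw [hx', hy']; group]
          exact hy'C)
        have h4 : t * x ^ 4 * t⁻¹ = (x ^ 4)⁻¹ := by rw [← conj_pow, htxt, inv_pow]
        have ht'y : t' * y' * t'⁻¹ = y'⁻¹ := by
          rw [ht', hy', show g⁻¹ * t * g * (g⁻¹ * x ^ 4 * g) * (g⁻¹ * t * g)⁻¹ =
            g⁻¹ * (t * x ^ 4 * t⁻¹) * g by group, h4]
          group
        have ht'N : t' ∈ N := d.tI t' y' hy'C hy'1 (ht'y ▸ inv_mem hy'C)
        have ht'C : t' ∉ C := by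
          intro h
          rw [d.comm t' h y' hy'C, mul_inv_cancel_right] at ht'y
          rcases d.inv2 y' hy'C (by nth_rewrite 1 [ht'y]; exact inv_mul_cancel y') with h1 | h1
          · exact hy'1 h1
          · apply ht1
            obtain ⟨a, ha⟩ := d.pow3
            obtain ⟨j, hj⟩ : Odd n := by rw [ha]; exact Odd.pow (by decide)
            have : y' ^ n = 1 := by
              rw [hy']
              have := conj_pow (i := n) (a := g⁻¹) (b := x ^ 4)
              rw [inv_inv] at this
              rw [this, ← pow_mul, hx4n]; simp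
            rw [h1, hj, pow_succ, pow_mul, sq, ht2, one_pow, one_mul] at this
            exact this
        have hx'C : x' ∈ C := by
          by_contra hc
          apply hx2
          have h := (d.out x' hx'N hc).1
          have e : x * x = g * (x' * x') * g⁻¹ := by rw [hx']; group
          rw [e, h]; simp
        set s := g * t * g⁻¹ with hs
        have hsJ : s ∈ J := by
          have hsN : s ∈ N := by
            rw [mem_N d, hs]
            have := (mem_N d).mp ht'N
            calc g * t * g⁻¹ * t = g * (t * t') * g⁻¹ := by rw [ht']; group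
              _ = g * (t' * t) * g⁻¹ := by rw [this]
              _ = t * (g * t * g⁻¹) := by rw [ht']; group
          simp only [J, Finset.mem_filter, Finset.mem_univ, true_and]
          refine ⟨hsN, fun hsC => ?_⟩
          rcases d.inv2 s hsC (hK2 s (isConj_iff.mpr ⟨g, rfl⟩)) with h1 | h1
          · rw [hs, conj_eq_one_iff] at h1; exact ht1 h1
          · apply ht'C
            have : t' = t := by
              have e : g * t * g⁻¹ = t := h1
              calc t' = g⁻¹ * (g * t * g⁻¹) * g := by rw [e]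
                _ = t := by group
            rw [this]; exact d.tC
        -- change the conjugating element to the chosen one
        set m := (gs s hsJ)⁻¹ * g with hm
        have hmN : m ∈ N := by
          rw [mem_N d, hm]
          have h2 : gs s hsJ * t * (gs s hsJ)⁻¹ = g * t * g⁻¹ := hgs s hsJ
          calc (gs s hsJ)⁻¹ * g * t = (gs s hsJ)⁻¹ * (g * t * g⁻¹) * g := by group
            _ = (gs s hsJ)⁻¹ * (gs s hsJ * t * (gs s hsJ)⁻¹) * g := by rw [h2]
            _ = t * ((gs s hsJ)⁻¹ * g) := by group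
        have hx'' : m * x' * m⁻¹ ∈ C := by
          by_cases hmC : m ∈ C
          · rw [d.comm m hmC x' hx'C]; simpa using hx'C
          · rw [d.inverts m hmN hmC x' hx'C]; exact inv_mem hx'C
        refine ⟨(s, m * x' * m⁻¹), Finset.mem_product.mpr ⟨hsJ, ?_⟩, ?_⟩
        · simp only [D, Finset.mem_filter, Finset.mem_univ, true_and]
          have hback : x = gs s hsJ * (m * x' * m⁻¹) * (gs s hsJ)⁻¹ := by
            rw [hm, hx']; group
          refine ⟨hx'', fun h => hx2 ?_, fun h => hx2 ?_⟩
          · rw [hback, h]; simp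
          · rw [hback, h]
            rw [show gs s hsJ * t * (gs s hsJ)⁻¹ * (gs s hsJ * t * (gs s hsJ)⁻¹) =
              gs s hsJ * (t * t) * (gs s hsJ)⁻¹ by group, ht2]
            simp
        · show t * (gs s hsJ * (m * x' * m⁻¹) * (gs s hsJ)⁻¹) = v
          have : gs s hsJ * (m * x' * m⁻¹) * (gs s hsJ)⁻¹ = x := by rw [hm, hx']; group
          rw [this, hx, ← mul_assoc, ht2, one_mul]
  have := Finset.card_sdiff_of_subset hsub
  rw [hmain, Finset.card_product, hJc, hDc, Finset.card_insert_of_notMem htJ, hJc] at this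
  have hle := Finset.card_le_card hsub
  rw [Finset.card_insert_of_notMem htJ, hJc] at hle
  omega

end count

theorem char_involution_int {G : Type u} [Group G] [Finite G] {χ : G → ℂ}
    (hχ : IsCharacter G χ) {t : G} (ht : orderOf t = 2) : ∃ z : ℤ, χ t = (z : ℂ) := by
  obtain ⟨n, ρ, rfl⟩ := hχ
  obtain ⟨ζ, hζ, -, hsum, -⟩ := exists_roots ρ t
  rw [hsum]
  have : ∀ i, ∃ z : ℤ, ζ i = (z : ℂ) := fun i => by
    have h := hζ i
    rw [ht] at h
    rcases sq_eq_one_iff.mp h with h1 | h1
    · exact ⟨1, by simp [h1]⟩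
    · exact ⟨-1, by simp [h1]⟩
  choose z hz using this
  exact ⟨∑ i, z i, by simp [hz]⟩

theorem sum_hom_zero {A : Type*} [Group A] [Fintype A] (β : A →* ℂˣ) {a : A} (ha : β a ≠ 1) :
    ∑ x : A, (β x : ℂ) = 0 := by
  classical
  have h : (β a : ℂ) * ∑ x : A, (β x : ℂ) = ∑ x : A, (β x : ℂ) := by
    rw [Finset.mul_sum]
    exact Fintype.sum_equiv (Equiv.mulLeft a) _ _ fun x => by simp
  by_contra hne
  apply ha
  ext
  simpa using (mul_eq_right₀ hne).mp h

theorem int_eq_false {n i a u : ℤ} (hn : 3 ≤ n) (hi : i = 4 * n ^ 2 - 2 * n + 1)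
    (heq : i * (a - u) ^ 2 = 8 * n ^ 2 * (a * (a + 1))) (hu : u ^ 2 + (1 + u) ^ 2 + 1 ≤ 4 * n)
    (ha : a ≠ 0) (ha1 : a ≠ -1) : False := by
  have hcop : IsCoprime i (8 * n ^ 2) := by
    have hn1 : IsCoprime i n := ⟨1, -(4 * n - 2), by rw [hi]; ring⟩
    have h2 : IsCoprime i 2 := ⟨1, -(2 * n ^ 2 - n), by rw [hi]; ring⟩
    have h8 : IsCoprime i ((2 : ℤ) ^ 3) := h2.pow_right
    norm_num at h8
    exact h8.mul_right hn1.pow_right
  obtain ⟨k, hk⟩ : i ∣ a * (a + 1) := hcop.dvd_of_dvd_mul_left ⟨(a - u) ^ 2, by rw [← heq]⟩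
  have hi0 : i ≠ 0 := by rw [hi]; nlinarith
  have hd : (a - u) ^ 2 = 8 * n ^ 2 * k := by
    apply mul_left_cancel₀ hi0
    rw [heq, hk]; ring
  obtain ⟨e, he⟩ : n ∣ a - u :=
    (Int.pow_dvd_pow_iff two_ne_zero).mp ⟨8 * k, by rw [hd]; ring⟩
  have he2 : e ^ 2 = 8 * k := by
    apply mul_left_cancel₀ (pow_ne_zero 2 (show n ≠ 0 by omega))
    calc n ^ 2 * e ^ 2 = (a - u) ^ 2 := by rw [he]; ring
      _ = n ^ 2 * (8 * k) := by rw [hd]; ring
  obtain ⟨e', rfl⟩ : (2 : ℤ) ∣ e :=
    Int.prime_two.dvd_of_dvd_pow (n := 2) ⟨4 * k, by rw [he2]; ring⟩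
  have he3 : e' ^ 2 = 2 * k := by linarith [show (2 * e') ^ 2 = 4 * e' ^ 2 by ring]
  obtain ⟨v, rfl⟩ : (2 : ℤ) ∣ e' :=
    Int.prime_two.dvd_of_dvd_pow (n := 2) ⟨k, he3⟩
  have hkv : k = 2 * v ^ 2 := by linarith [show (2 * v) ^ 2 = 4 * v ^ 2 by ring]
  by_cases hv : v = 0
  · subst hv
    rw [hkv] at hk
    have : a * (a + 1) = 0 := by rw [hk]; ring
    rcases mul_eq_zero.mp this with h | h
    · exact ha h
    · exact ha1 (by linarith)
  · have hav : a = 4 * n * v + u := by linarith [show n * (2 * (2 * v)) = 4 * n * v by ring]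
    rw [hkv, hi, hav] at hk
    have hv2 : 1 ≤ v ^ 2 := by
      have : 0 < v ^ 2 := by positivity
      omega
    nlinarith [sq_nonneg (4 * n * v + 2 * (2 * u + 1)), mul_le_mul_of_nonneg_left hv2
      (show 0 ≤ 16 * n ^ 2 + 16 * n - 8 by nlinarith)]

open Classical in
theorem not_exists {G : Type u} [Group G] [Fintype G] [IsSimpleGroup G] {C N : Subgroup G}
    {t : G} {n : ℕ} (d : LocalData C N t n) : False := by
  haveI : Fintype C := Fintype.ofFinite C
  letI : CommGroup C :=
    { (inferInstance : Group C) with mul_comm := fun x y => Subtype.ext (d.comm _ x.2 _ y.2) }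
  have ht2 : t * t = 1 := mul_self_of_orderOf d.ord
  have htinv : t⁻¹ = t := inv_eq_of_mul_eq_one_right ht2
  have ht1 : t ≠ 1 := fun h => by have := d.ord; simp [h] at this
  obtain ⟨a3, ha3⟩ := d.pow3
  have hodd : Odd n := by rw [ha3]; exact Odd.pow (by decide)
  -- the linear character
  obtain ⟨⟨p, hpC⟩, hp⟩ : ∃ p : C, orderOf p = 3 := by
    haveI : Fact (Nat.Prime 3) := ⟨Nat.prime_three⟩
    apply exists_prime_orderOf_dvd_card'
    rw [d.cardC, ha3]
    refine Dvd.dvd.mul_left (dvd_pow_self 3 ?_) 2
    have := d.three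
    intro h; rw [ha3, h] at this; simp at this
  set pc : C := ⟨p, hpC⟩
  have hp4 : pc ^ 4 ≠ 1 := fun h => by
    have := orderOf_dvd_of_pow_eq_one h; rw [hp] at this; omega
  obtain ⟨lam, hlam⟩ := CommGroup.exists_apply_ne_one_of_hasEnoughRootsOfUnity C ℂ hp4
  set β : C →* ℂˣ :=
    { toFun := fun x => lam (x * x)
      map_one' := by simp
      map_mul' := fun x y => by rw [← map_mul]; congr 1; exact mul_mul_mul_comm x y x y } with hβ
  have hβap : ∀ x, β x = lam (x * x) := fun x => rfl
  have hβ2 : (β * β) pc ≠ 1 := by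
    rw [MonoidHom.mul_apply, hβap, ← map_mul]
    convert hlam using 2
    simp [pow_succ, mul_assoc]
  have hβ1 : β pc ≠ 1 := fun h => hβ2 (by rw [MonoidHom.mul_apply, h, mul_one])
  have hsumβ : ∑ x : C, (β x : ℂ) = 0 := sum_hom_zero β hβ1
  have hsumβ2 : ∑ x : C, (β x : ℂ) * (β x : ℂ) = 0 := by
    have := sum_hom_zero (β * β) hβ2
    simpa using this
  have hsumβi : ∑ x : C, (β x⁻¹ : ℂ) = 0 := by
    rw [← hsumβ]; exact Fintype.sum_equiv (Equiv.inv C) _ _ fun x => rfl
  have hsumβi2 : ∑ x : C, (β x⁻¹ : ℂ) * (β x⁻¹ : ℂ) = 0 := by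
    rw [← hsumβ2]; exact Fintype.sum_equiv (Equiv.inv C) _ _ fun x => rfl
  set tc : C := ⟨t, d.tC⟩
  have hβt : β tc = 1 := by
    rw [hβap, show tc * tc = 1 from Subtype.ext ht2, map_one]
  set w : C → ℂ := fun x => 1 - (β x : ℂ) with hw
  have hw1 : w 1 = 0 := by simp [hw]
  have hwt : w tc = 0 := by simp [hw, hβt]
  set f := indFun C w with hf
  have hgen : IsGeneralizedCharacter G f :=
    gen_indFun C ⟨fun _ => 1, fun x => (β x : ℂ), isCharacter_one, isCharacter_linear β, rfl⟩
  have hcl := classFun_of_gen hgen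
  have hn0 : (n : ℂ) ≠ 0 := by have := d.three; exact_mod_cast (show n ≠ 0 by omega)
  have hcardC : (Nat.card C : ℂ) = 2 * n := by rw [d.cardC]; push_cast; ring
  have hFC : Fintype.card C = 2 * n := by rw [Fintype.card_eq_nat_card, d.cardC]
  have hf1 : f 1 = 0 := by rw [hf, indFun_one, hw1, mul_zero]
  -- values on C
  have hfval : ∀ x : C, f x = w x + w x⁻¹ := by
    intro x
    by_cases hx1 : (x : G) = 1
    · have : x = 1 := Subtype.ext hx1
      subst this
      simp [hf1, hw1]
    rw [hf, indFun_apply, hcardC]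
    set J := Finset.univ.filter fun u : G => u ∈ N ∧ u ∉ C
    set CS := Finset.univ.filter fun u : G => u ∈ C
    have hsup : ∑ h : G, extendByZero C w (h⁻¹ * x * h) =
        ∑ h ∈ CS, extendByZero C w (h⁻¹ * x * h) + ∑ h ∈ J, extendByZero C w (h⁻¹ * x * h) := by
      rw [← Finset.sum_union (by
        rw [Finset.disjoint_left]; intro a ha; simp [CS] at ha; simp [J, ha])]
      symm
      apply Finset.sum_subset (Finset.subset_univ _)
      intro h _ hh
      simp [CS, J] at hh
      apply extendByZero_not_mem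
      intro hm
      have hin : h⁻¹ ∈ N := d.tI h⁻¹ x x.2 hx1 (by rwa [inv_inv])
      exact hh.1 (hh.2 (by simpa using inv_mem hin))
    have e1 : ∀ h ∈ CS, extendByZero C w (h⁻¹ * x * h) = w x := fun h hh => by
      simp [CS] at hh
      rw [show h⁻¹ * (x : G) * h = x by rw [mul_assoc, d.comm _ x.2 _ hh, inv_mul_cancel_left]]
      exact extendByZero_mem _ _ _
    have e2 : ∀ h ∈ J, extendByZero C w (h⁻¹ * x * h) = w x⁻¹ := fun h hh => by
      simp [J] at hh
      have h2 := (d.out h hh.1 hh.2).1
      have hinv : h⁻¹ = h := inv_eq_of_mul_eq_one_right h2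
      have h3 := d.inverts h hh.1 hh.2 x x.2
      rw [hinv] at h3 ⊢
      rw [h3]
      exact extendByZero_mem _ _ x⁻¹
    rw [hsup, Finset.sum_congr rfl e1, Finset.sum_congr rfl e2, Finset.sum_const, Finset.sum_const,
      card_out d]
    have : CS.card = 2 * n := by
      rw [← d.cardC, Nat.card_eq_fintype_card, Fintype.card_subtype]
    rw [this]
    simp only [nsmul_eq_mul, Nat.cast_mul, Nat.cast_ofNat]
    field_simp
  have hft : f t = 0 := by
    have := hfval tc
    rw [show tc⁻¹ = tc from Subtype.ext htinv, hwt] at this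
    simpa using this
  have hsumw : ∑ x : C, w x = 2 * n := by
    simp [hw, Finset.sum_sub_distrib, hsumβ, hFC]
  -- inner products
  have hf1G : classInner f (fun _ : G => (1 : ℂ)) = 1 := by
    rw [hf, frobenius C w (fun _ _ => rfl), classInner_def, hcardC]
    simp only [map_one, mul_one]
    rw [hsumw]
    field_simp
  have hff : classInner f f = 3 := by
    conv_lhs => arg 1; rw [hf]
    rw [frobenius C w hcl, classInner_def, hcardC]
    have hconj : ∀ x : C, conj (β x : ℂ) = (β x⁻¹ : ℂ) := fun x => by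
      have h := char_conj_eq (isCharacter_linear β) x
      exact h.symm
    have hmul : ∀ x : C, (β x : ℂ) * (β x⁻¹ : ℂ) = 1 := fun x => by
      rw [map_inv, ← Units.val_mul, mul_inv_cancel, Units.val_one]
    have : ∀ x : C, w x * conj (f x) = 3 - 3 * (β x : ℂ) - (β x⁻¹ : ℂ) + (β x : ℂ) * (β x : ℂ) := by
      intro x
      rw [hfval]
      simp only [hw, map_add, map_sub, map_one, hconj, inv_inv]
      linear_combination (hmul x)
    rw [Finset.sum_congr rfl fun x _ => this x]
    simp only [Finset.sum_add_distrib, Finset.sum_sub_distrib, Finset.sum_const, Finset.card_univ,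
      ← Finset.mul_sum, hsumβ, hsumβ2, hsumβi, hFC, nsmul_eq_mul]
    push_cast
    field_simp
    ring
  -- decomposition
  obtain ⟨-, hint⟩ := isGeneralized_iff.mp hgen
  choose c hc using hint
  set one : IrrCharacter G := ⟨fun _ => 1, isIrr_one⟩
  have hc1 : c one = 1 := by
    have := hc one
    rw [show ((one : IrrCharacter G) : G → ℂ) = fun _ => 1 from rfl, hf1G] at this
    exact_mod_cast this.symm
  have hdec : f = ∑ χ : IrrCharacter G, (c χ : ℂ) • (χ : G → ℂ) := by
    conv_lhs => rw [classFun_eq_sum hcl]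
    simp only [hc]
  have hnorm : ∑ χ : IrrCharacter G, c χ ^ 2 = 3 := by
    have : classInner f f = ∑ χ : IrrCharacter G, (c χ : ℂ) * classInner (χ : G → ℂ) f := by
      conv_lhs => arg 1; rw [hdec]
      rw [classInner_sum_left]
      simp [classInner_smul_left]
    rw [hff] at this
    have h2 : ∀ χ : IrrCharacter G, classInner (χ : G → ℂ) f = (c χ : ℂ) := fun χ => by
      rw [← classInner_conj, hc, map_intCast]
    simp only [h2] at this
    have h3 : ((∑ χ : IrrCharacter G, c χ ^ 2 : ℤ) : ℂ) = ((3 : ℤ) : ℂ) := by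
      push_cast
      rw [this]
      exact Finset.sum_congr rfl fun χ _ => sq _
    exact_mod_cast h3
  set T := (Finset.univ.erase one).filter fun χ => c χ ≠ 0 with hT
  have hT2 : ∑ χ ∈ T, c χ ^ 2 = 2 := by
    have h := Finset.add_sum_erase Finset.univ (fun χ => c χ ^ 2) (Finset.mem_univ one)
    rw [hnorm, hc1] at h
    rw [hT, Finset.sum_filter_of_ne (fun χ _ h => by
      intro h0; rw [h0] at h; simp at h)]
    linarith
  have habs : ∀ χ ∈ T, c χ ^ 2 = 1 := by
    intro χ hχ
    have h1 : c χ ^ 2 ≤ 2 := hT2 ▸ Finset.single_le_sum (fun i _ => sq_nonneg (c i)) hχ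
    have h0 : c χ ≠ 0 := (Finset.mem_filter.mp hχ).2
    have : c χ ≤ 1 ∧ -1 ≤ c χ := ⟨by nlinarith, by nlinarith⟩
    rcases (by omega : c χ = 1 ∨ c χ = -1) with h | h <;> simp [h]
  have hTcard : T.card = 2 := by
    rw [Finset.sum_congr rfl habs] at hT2
    simp at hT2
    exact_mod_cast hT2
  obtain ⟨A, B, hAB, hTAB⟩ := Finset.card_eq_two.mp hTcard
  have hA1 : A ≠ one := (Finset.mem_erase.mp (Finset.mem_filter.mp
    (show A ∈ T by simp [hTAB])).1).1
  have hB1 : B ≠ one := (Finset.mem_erase.mp (Finset.mem_filter.mp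
    (show B ∈ T by simp [hTAB])).1).1
  have hεA := habs A (by simp [hTAB])
  have hεB := habs B (by simp [hTAB])
  -- evaluate linear functionals on the decomposition
  have heval : ∀ F : IrrCharacter G → ℂ,
      ∑ χ : IrrCharacter G, (c χ : ℂ) * F χ = F one + c A * F A + c B * F B := by
    intro F
    rw [← Finset.add_sum_erase _ _ (Finset.mem_univ one), hc1, Int.cast_one, one_mul, add_assoc]
    congr 1
    rw [← Finset.sum_filter_of_ne (p := fun χ => c χ ≠ 0) (fun χ _ h h0 => by
      rw [h0] at h; simp at h), ← hT, hTAB, Finset.sum_pair hAB]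
  have hvals : ∀ g : G, f g = 1 + c A * (A : G → ℂ) g + c B * (B : G → ℂ) g := by
    intro g
    rw [hdec, Finset.sum_apply]
    simp only [Pi.smul_apply, smul_eq_mul]
    exact heval fun χ => (χ : G → ℂ) g
  obtain ⟨dA, hdA0, hdA⟩ := irr_deg A.2
  obtain ⟨dB, hdB0, hdB⟩ := irr_deg B.2
  have hz : ∀ χ : IrrCharacter G, ∃ z : ℤ, (χ : G → ℂ) t = (z : ℂ) := fun χ =>
    char_involution_int (isCharacter_of_isIrr χ.2) d.ord
  choose z hz using hz
  have e1 : (0 : ℤ) = 1 + c A * dA + c B * dB := by
    have := hvals 1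
    rw [hf1, hdA, hdB] at this
    exact_mod_cast this
  have et : (0 : ℤ) = 1 + c A * z A + c B * z B := by
    have := hvals t
    rw [hft, hz, hz] at this
    exact_mod_cast this
  -- second orthogonality
  have horth : ∑ χ : IrrCharacter G, z χ ^ 2 = 4 * (n : ℤ) := by
    have h := second_orth t t
    rw [if_pos (IsConj.refl t), ← d.eqN, d.cardN] at h
    have h3 : ((∑ χ : IrrCharacter G, z χ ^ 2 : ℤ) : ℂ) = ((4 * n : ℕ) : ℂ) := by
      rw [← h]
      push_cast
      refine Finset.sum_congr rfl fun χ _ => ?_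
      rw [hz, map_intCast]; ring
    exact_mod_cast h3
  have hz1 : z one = 1 := by
    have h := hz one
    rw [show ((one : IrrCharacter G) : G → ℂ) t = 1 from rfl] at h
    exact_mod_cast h.symm
  have hbound : 1 + z A ^ 2 + z B ^ 2 ≤ 4 * (n : ℤ) := by
    rw [← horth]
    have := Finset.sum_le_sum_of_subset_of_nonneg (s := ({one, A, B} : Finset (IrrCharacter G)))
      (t := Finset.univ) (f := fun χ => z χ ^ 2) (Finset.subset_univ _) fun χ _ _ => sq_nonneg _
    rw [Finset.sum_insert (by simp [hA1.symm, hB1.symm]), Finset.sum_pair hAB, hz1] at this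
    linarith
  -- the class sum
  set K := Finset.univ.filter fun u : G => IsConj t u with hK
  have hKi : K.card = 1 + 2 * n + 2 * n * (2 * n - 2) := card_conj d
  have hidx : ((Subgroup.centralizer ({t} : Set G)).index : ℂ) = (K.card : ℂ) := by
    rw [← card_filter_isConj t]
  have hG : (Nat.card G : ℂ) = 4 * n * K.card := by
    rw [← index_mul_card_centralizer t, Nat.cast_mul, hidx, ← d.eqN, d.cardN]
    push_cast; ring
  have hchar : ∀ χ : IrrCharacter G, ∑ u ∈ K, ∑ v ∈ K, (χ : G → ℂ) (u * v) =
      (K.card : ℂ) ^ 2 * ((χ : G → ℂ) t ^ 2 / (χ : G → ℂ) 1) := by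
    intro χ
    have h := centralChar_mul χ.2 t t
    have h0 := irr_one_ne_zero χ.2
    simp only [centralChar, hidx] at h
    rw [eq_div_iff h0] at h
    rw [← h]
    field_simp
  have hLHS : ∑ u ∈ K, ∑ v ∈ K, f (u * v) = (K.card : ℂ) ^ 2 *
      (1 + c A * ((z A : ℂ) ^ 2 / dA) + c B * ((z B : ℂ) ^ 2 / dB)) := by
    simp only [hdec, Finset.sum_apply, Pi.smul_apply, smul_eq_mul]
    rw [Finset.sum_congr rfl fun u _ => Finset.sum_comm, Finset.sum_comm]
    simp only [← Finset.mul_sum, hchar]
    rw [heval, hz A, hz B, hdA, hdB, show ((one : IrrCharacter G) : G → ℂ) = fun _ => 1 from rfl]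
    ring
  have hKconj : ∀ h u : G, u ∈ K ↔ h⁻¹ * u * h ∈ K := by
    intro h u
    simp only [hK, Finset.mem_filter, Finset.mem_univ, true_and]
    exact ⟨fun hu => hu.trans (isConj_iff.mpr ⟨h⁻¹, by group⟩),
      fun hu => hu.trans (isConj_iff.mpr ⟨h, by group⟩)⟩
  have hinner : ∑ u ∈ K, ∑ v ∈ K, extendByZero C w (u * v) = 4 * (n : ℂ) ^ 2 := by
    have h1 : ∀ u ∈ K, ∑ v ∈ K, extendByZero C w (u * v) =
        ∑ x : C, if u * x ∈ K then w x else 0 := by
      intro u hu
      have hu2 : u * u = 1 := by
        simp only [hK, Finset.mem_filter, Finset.mem_univ, true_and] at hu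
        obtain ⟨g, rfl⟩ := isConj_iff.mp hu
        rw [show g * t * g⁻¹ * (g * t * g⁻¹) = g * (t * t) * g⁻¹ by group, ht2]; simp
      calc ∑ v ∈ K, extendByZero C w (u * v)
          = ∑ v : G, if v ∈ K then extendByZero C w (u * v) else 0 := by
            rw [Finset.sum_ite_mem, Finset.univ_inter]
        _ = ∑ x : G, if u * x ∈ K then extendByZero C w x else 0 :=
            Fintype.sum_equiv (Equiv.mulLeft u) _ _ fun v => by
              simp [← mul_assoc, hu2]
        _ = ∑ x : C, if u * x ∈ K then w x else 0 := by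
            rw [sum_subgroup C _ fun g hg => by simp [extendByZero_not_mem _ _ hg]]
            simp [extendByZero_mem]
    rw [Finset.sum_congr rfl h1, Finset.sum_comm]
    have h2 : ∀ x : C, (∑ u ∈ K, if u * x ∈ K then w x else 0) = 2 * n * w x := by
      intro x
      by_cases hx1 : x = 1
      · subst hx1; simp [hw1]
      by_cases hxt : x = tc
      · subst hxt; simp [hwt]
      rw [← Finset.sum_filter, Finset.sum_const, nsmul_eq_mul]
      have : (K.filter fun u : G => u * (x : G) ∈ K) = Finset.univ.filter fun u : G => u ∈ N ∧ u ∉ C := by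
        ext u
        simp only [hK, Finset.mem_filter, Finset.mem_univ, true_and]
        constructor
        · rintro ⟨hu, hux⟩
          have h2 : ∀ y, IsConj t y → y * y = 1 := fun y hy => by
            obtain ⟨g, rfl⟩ := isConj_iff.mp hy
            rw [show g * t * g⁻¹ * (g * t * g⁻¹) = g * (t * t) * g⁻¹ by group, ht2]; simp
          have hu2 := h2 u hu
          have hinv : u * x * u⁻¹ = (x : G)⁻¹ := by
            have h3 := h2 _ hux
            rw [inv_eq_of_mul_eq_one_right hu2]
            exact eq_inv_of_mul_eq_one_left (by simpa [mul_assoc] using h3)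
          have huN : u ∈ N := d.tI u x x.2 (fun h => hx1 (Subtype.ext h)) (hinv ▸ inv_mem x.2)
          refine ⟨huN, fun huC => ?_⟩
          rw [d.comm u huC x x.2, mul_inv_cancel_right] at hinv
          rcases d.inv2 x x.2 (by nth_rewrite 1 [hinv]; exact inv_mul_cancel _) with h | h
          · exact hx1 (Subtype.ext h)
          · exact hxt (Subtype.ext h)
        · rintro ⟨huN, huC⟩
          exact ⟨(d.out u huN huC).2, (d.out _ (mul_mem huN (d.le x.2))
            (fun h => huC (by simpa using mul_mem h (inv_mem x.2)))).2⟩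
      rw [this, card_out d]
      push_cast; ring
    rw [Finset.sum_congr rfl fun x _ => h2 x, ← Finset.mul_sum, hsumw]
    ring
  have hRHS : ∑ u ∈ K, ∑ v ∈ K, f (u * v) = 8 * (n : ℂ) ^ 2 * K.card := by
    have h1 : ∀ h : G, ∑ u ∈ K, ∑ v ∈ K, extendByZero C w (h⁻¹ * (u * v) * h) =
        4 * (n : ℂ) ^ 2 := by
      intro h
      rw [← hinner]
      refine Finset.sum_nbij' (fun u => h⁻¹ * u * h) (fun u => h * u * h⁻¹)
        (fun u hu => (hKconj h u).mp hu) (fun u hu => (hKconj h _).mpr (by simpa [mul_assoc] using hu))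
        (fun u _ => by group) (fun u _ => by group) fun u _ => ?_
      refine Finset.sum_nbij' (fun u => h⁻¹ * u * h) (fun u => h * u * h⁻¹)
        (fun u hu => (hKconj h u).mp hu) (fun u hu => (hKconj h _).mpr (by simpa [mul_assoc] using hu))
        (fun u _ => by group) (fun u _ => by group) fun v _ => ?_
      simp [mul_assoc]
    simp only [hf, indFun_apply, ← Finset.mul_sum]
    rw [Finset.sum_congr rfl fun u _ => Finset.sum_comm, Finset.sum_comm,
      Finset.sum_congr rfl fun h _ => h1 h, Finset.sum_const, Finset.card_univ, nsmul_eq_mul,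
      Fintype.card_eq_nat_card, hG, hcardC]
    field_simp
    ring
  rw [hLHS] at hRHS
  -- back to integers
  set a : ℤ := c A * dA with ha
  set u : ℤ := c A * z A with hu
  have ha0 : a ≠ 0 := by
    rw [ha]; intro h
    rcases mul_eq_zero.mp h with h | h
    · rw [h] at hεA; simp at hεA
    · omega
  have hb : c B * (dB : ℤ) = -(1 + a) := by linarith
  have hwB : c B * z B = -(1 + u) := by linarith
  have ha1 : a ≠ -1 := by
    intro h
    rw [h] at hb
    rcases mul_eq_zero.mp (show c B * (dB : ℤ) = 0 by rw [hb]; ring) with h2 | h2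
    · rw [h2] at hεB; simp at hεB
    · omega
  set i : ℤ := (K.card : ℤ) with hi
  have hKpos : (K.card : ℂ) ≠ 0 := by
    rw [hKi]; exact_mod_cast (show 1 + 2 * n + 2 * n * (2 * n - 2) ≠ 0 by omega)
  have key : i * (a - u) ^ 2 = 8 * (n : ℤ) ^ 2 * (a * (a + 1)) := by
    have hA' : (c A : ℂ) * ((z A : ℂ) ^ 2 / dA) = (u : ℂ) ^ 2 / (a : ℂ) := by
      rw [ha, hu]; push_cast
      have : (c A : ℂ) ^ 2 = 1 := by exact_mod_cast hεA
      have hd : (dA : ℂ) ≠ 0 := by exact_mod_cast hdA0.ne'
      have hc0 : (c A : ℂ) ≠ 0 := fun h => by rw [h] at this; simp at this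
      field_simp
    have hB' : (c B : ℂ) * ((z B : ℂ) ^ 2 / dB) = (1 + u : ℂ) ^ 2 / (-(1 + a) : ℂ) := by
      have h1 : ((c B * dB : ℤ) : ℂ) = ((-(1 + a) : ℤ) : ℂ) := by rw [hb]
      have h2 : ((c B * z B : ℤ) : ℂ) = ((-(1 + u) : ℤ) : ℂ) := by rw [hwB]
      push_cast at h1 h2
      rw [← h1, show (1 + u : ℂ) ^ 2 = (-(1 + u) : ℂ) ^ 2 by ring, ← h2]
      have : (c B : ℂ) ^ 2 = 1 := by exact_mod_cast hεB
      have hd : (dB : ℂ) ≠ 0 := by exact_mod_cast hdB0.ne'
      have hc0 : (c B : ℂ) ≠ 0 := fun h => by rw [h] at this; simp at this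
      field_simp
    rw [hA', hB'] at hRHS
    have hac : (a : ℂ) ≠ 0 := by exact_mod_cast ha0
    have ha1c : (1 + a : ℂ) ≠ 0 := by exact_mod_cast (show (1 + a : ℤ) ≠ 0 by omega)
    have hid : 1 + (u : ℂ) ^ 2 / a + (1 + u : ℂ) ^ 2 / (-(1 + a)) =
        ((a : ℂ) - u) ^ 2 / (a * (1 + a)) := by
      field_simp
      ring
    rw [hid] at hRHS
    have h3 : ((i * (a - u) ^ 2 : ℤ) : ℂ) = ((8 * (n : ℤ) ^ 2 * (a * (a + 1)) : ℤ) : ℂ) := by
      rw [hi]; push_cast
      field_simp at hRHS
      linear_combination hRHS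
    exact_mod_cast h3
  refine int_eq_false (n := (n : ℤ)) (i := i) (a := a) (u := u) ?_ ?_ key ?_ ha0 ha1
  · have := d.three; exact_mod_cast this
  · rw [hi, hKi]
    have h2 : 2 ≤ 2 * n := by have := d.three; omega
    push_cast [h2]
    ring
  · have hA2 : u ^ 2 = z A ^ 2 := by rw [hu, mul_pow, hεA, one_mul]
    have hB2 : (1 + u) ^ 2 = z B ^ 2 := by
      rw [show (1 + u) ^ 2 = (-(1 + u)) ^ 2 by ring, ← hwB, mul_pow, hεB, one_mul]
    rw [hA2, hB2]; linarith

end CfsgLib.Base.TI3
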