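import Cfsg.Prelude.Def_OddOrderLocal
import Cfsg.Agent.Char.Classes
import Mathlib.GroupTheory.Sylow
import Mathlib.GroupTheory.Transfer
import Mathlib.GroupTheory.PGroup

/-! Groups with an abelian Sylow 3-subgroup whose centralizer is TI of twice its order:
local structure and the number of involutions. -/

set_option linter.unusedSectionVars false
set_option linter.style.haveILetI false

namespace CfsgLib.Base.TI3

universe u

variable {G : Type u} [Group G] [Finite G]

/-- local data at an involution -/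
structure LocalData (C N : Subgroup G) (t : G) (n : ℕ) : Prop where
  three : 3 ≤ n
  pow3 : ∃ a : ℕ, n = 3 ^ a
  cardC : Nat.card C = 2 * n
  cardN : Nat.card N = 4 * n
  le : C ≤ N
  eqN : N = Subgroup.centralizer ({t} : Set G)
  tC : t ∈ C
  ord : orderOf t = 2
  comm : ∀ x ∈ C, ∀ y ∈ C, x * y = y * x
  inv2 : ∀ x ∈ C, x * x = 1 → x = 1 ∨ x = t
  out : ∀ u ∈ N, u ∉ C → u * u = 1 ∧ IsConj t u
  inverts : ∀ u ∈ N, u ∉ C → ∀ x ∈ C, u * x * u⁻¹ = x⁻¹
  conjAll : ∀ y : G, orderOf y = 2 → IsConj t y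
  tI : ∀ g x : G, x ∈ C → x ≠ 1 → g * x * g⁻¹ ∈ C → g ∈ N
  contains3 : ∀ y : G, y ^ n = 1 → ∃ g : G, g⁻¹ * y * g ∈ C
  proper : ∀ H : Subgroup G, H ≠ ⊤ → 2 ∣ Nat.card H → Nat.card H ∣ 4 * n
  cyc : ¬ ∀ a b : G, a * b = b * a

theorem mul_self_of_orderOf {t : G} (h : orderOf t = 2) : t * t = 1 := by
  rw [← sq, ← h, pow_orderOf_eq_one]

theorem orderOf_two {t : G} (h : t * t = 1) (h1 : t ≠ 1) : orderOf t = 2 :=
  orderOf_eq_prime (by rw [sq]; exact h) h1

theorem sylow_four_data [IsSimpleGroup G] (hnc : ¬ ∀ a b : G, a * b = b * a) (S : Sylow 2 G)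
    (hS : Nat.card (S : Subgroup G) = 4) (a b : G) (ha : a ∈ (S : Subgroup G))
    (hb : b ∈ (S : Subgroup G)) (ha2 : orderOf a = 2) (hb1 : b ≠ 1) :
    orderOf b = 2 ∧ ∃ g : G, g * a * g⁻¹ = b := by
  classical
  haveI : Fact (Nat.Prime 2) := ⟨Nat.prime_two⟩
  have hcomm : ∀ x ∈ (S : Subgroup G), ∀ y ∈ (S : Subgroup G), x * y = y * x := by
    intro x hx y hy
    have h := (IsPGroup.isMulCommutative_of_card_eq_prime_sq (p := 2) (G := (S : Subgroup G))
      (by rw [hS]; norm_num)).is_comm.comm ⟨x, hx⟩ ⟨y, hy⟩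
    exact congrArg Subtype.val h
  obtain ⟨g, hgN, hgC⟩ : ∃ g, g ∈ Subgroup.normalizer ((S : Subgroup G) : Set G) ∧
      g ∉ Subgroup.centralizer ((S : Subgroup G) : Set G) := by
    by_contra hcon
    push Not at hcon
    have hle : Subgroup.normalizer ((S : Subgroup G) : Set G) ≤
        Subgroup.centralizer ((S : Subgroup G) : Set G) := fun g hg => hcon g hg
    have hc := MonoidHom.ker_transferSylow_isComplement' S hle
    rcases (MonoidHom.transferSylow S hle).normal_ker.eq_bot_or_eq_top with h | h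
    · rw [h, Subgroup.isComplement'_bot_left] at hc
      apply hnc
      intro x y
      exact hcomm x (hc ▸ Subgroup.mem_top x) y (hc ▸ Subgroup.mem_top y)
    · rw [h, Subgroup.isComplement'_top_left] at hc
      rw [hc, Subgroup.card_bot] at hS
      norm_num at hS
  obtain ⟨k, m, hm, hkm⟩ := Nat.exists_eq_pow_mul_and_not_dvd (n := orderOf g)
    (orderOf_pos g).ne' 2 (by norm_num)
  set g' := g ^ (2 ^ k) with hg'
  have hg'N : g' ∈ Subgroup.normalizer ((S : Subgroup G) : Set G) := pow_mem hgN _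
  have hg'm : g' ^ m = 1 := by rw [hg', ← pow_mul, ← hkm, pow_orderOf_eq_one]
  have hmodd : Odd m := by
    rw [Nat.odd_iff]; omega
  -- the two-part of g lies in S
  have h2 : g ^ m ∈ (S : Subgroup G) := by
    have hgm : g ^ m ∈ Subgroup.normalizer ((S : Subgroup G) : Set G) := pow_mem hgN _
    have hp : IsPGroup 2 (Subgroup.zpowers (g ^ m)) := by
      apply IsPGroup.of_card (n := (Nat.card (Subgroup.zpowers (g ^ m))).factorization 2)
      rw [Nat.card_zpowers]
      have hdvd : orderOf (g ^ m) ∣ 2 ^ k :=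
        orderOf_dvd_of_pow_eq_one (by rw [← pow_mul, mul_comm, ← hkm, pow_orderOf_eq_one])
      obtain ⟨j, -, hj⟩ := (Nat.dvd_prime_pow Nat.prime_two).mp hdvd
      rw [hj, Nat.Prime.factorization_pow Nat.prime_two]
      simp
    have hsup : IsPGroup 2 (Subgroup.zpowers (g ^ m) ⊔ (S : Subgroup G) : Subgroup G) :=
      IsPGroup.to_sup_of_normal_right' hp S.isPGroup'
        ((Subgroup.zpowers_le).mpr hgm)
    have he := S.is_maximal' hsup le_sup_right
    rw [← he]
    exact Subgroup.mem_sup_left (Subgroup.mem_zpowers _)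
  have hg'C : g' ∉ Subgroup.centralizer ((S : Subgroup G) : Set G) := by
    intro hc
    apply hgC
    have hgmC : g ^ m ∈ Subgroup.centralizer ((S : Subgroup G) : Set G) := by
      rw [Subgroup.mem_centralizer_iff]
      exact fun x hx => hcomm x hx _ h2
    have hco : Nat.Coprime (2 ^ k) m :=
      Nat.Coprime.pow_left k ((Nat.Prime.coprime_iff_not_dvd Nat.prime_two).mpr hm)
    have hbez := Nat.gcd_eq_gcd_ab (2 ^ k) m
    rw [hco.gcd_eq_one] at hbez
    have : g = (g ^ (2 ^ k)) ^ (Nat.gcdA (2 ^ k) m) * (g ^ m) ^ (Nat.gcdB (2 ^ k) m) := by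
      rw [← zpow_natCast g (2 ^ k), ← zpow_natCast g m, ← zpow_mul, ← zpow_mul, ← zpow_add]
      rw [← hbez]; simp
    rw [this]
    exact mul_mem (Subgroup.zpow_mem _ hc _) (Subgroup.zpow_mem _ hgmC _)
  -- the action of g' on S
  have hmem : ∀ x, x ∈ (S : Subgroup G) → g' * x * g'⁻¹ ∈ (S : Subgroup G) := fun x hx =>
    (Subgroup.mem_normalizer_iff.mp hg'N x).mp hx
  let T : Finset G := ((S : Subgroup G) : Set G).toFinite.toFinset.erase 1
  have hT : ∀ x, x ∈ T ↔ x ≠ 1 ∧ x ∈ (S : Subgroup G) := fun x => by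
    simp only [T, Finset.mem_erase, Set.Finite.mem_toFinset, SetLike.mem_coe]
  have hTcard : T.card = 3 := by
    have : (((S : Subgroup G) : Set G).toFinite.toFinset).card = 4 := by
      rw [← hS, ← Set.ncard_eq_toFinset_card, ← Nat.card_coe_set_eq]
      rfl
    rw [Finset.card_erase_of_mem (by simp), this]
  let φ : G → G := fun x => g' * x * g'⁻¹
  have hφinj : Function.Injective φ := fun x y h => by simpa [φ] using h
  have hφT : ∀ x ∈ T, φ x ∈ T := fun x hx => by
    rw [hT] at hx ⊢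
    refine ⟨fun h => hx.1 ?_, hmem x hx.2⟩
    apply hφinj
    simpa [φ] using h
  have hpow : ∀ (j : ℕ) (x : G), φ^[j] x = g' ^ j * x * (g' ^ j)⁻¹ := by
    intro j
    induction j with
    | zero => simp
    | succ j ih => intro x; rw [Function.iterate_succ_apply', ih]; simp [φ, pow_succ', mul_assoc]
  -- no fixed point in T
  have hnofix : ∀ x ∈ T, φ x ≠ x := by
    intro x hx hfix
    apply hg'C
    rw [Subgroup.mem_centralizer_iff]
    intro y hy
    have hfy : φ y = y := by
      by_cases hy1 : y = 1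
      · simp [φ, hy1]
      by_cases hyx : y = x
      · rw [hyx]; exact hfix
      have hyT : y ∈ T := (hT y).mpr ⟨hy1, hy⟩
      by_contra hne
      have hφy : φ y ∈ T := hφT y hyT
      have hyx' : φ y ≠ x := fun h => hyx (hφinj (h.trans hfix.symm))
      have hφφ : φ (φ y) = y := by
        have h3 : ({x, y, φ y} : Finset G) = T := by
          apply Finset.eq_of_subset_of_card_le
          · intro z hz
            simp at hz
            rcases hz with rfl | rfl | rfl <;> assumption
          · rw [hTcard, Finset.card_eq_three.mpr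
              ⟨x, y, φ y, fun h => hyx h.symm, fun h => hyx' h.symm, fun h => hne h.symm, rfl⟩]
        have h4 : φ (φ y) ∈ T := hφT _ hφy
        rw [← h3] at h4
        simp at h4
        rcases h4 with h | h | h
        · exact absurd (hφinj (h.trans hfix.symm)) hyx'
        · exact h
        · exact absurd (hφinj h) hne
      have hev : ∀ j, φ^[2 * j] y = y := by
        intro j
        rw [Function.iterate_mul]
        exact Function.IsFixedPt.iterate (show φ^[2] y = y from hφφ) j
      obtain ⟨j, hj⟩ := hmodd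
      have h5 : φ^[m] y = y := by rw [hpow, hg'm]; simp
      rw [hj, ← Nat.succ_eq_add_one, Function.iterate_succ_apply', hev] at h5
      exact hne h5
    simp only [φ] at hfy
    calc y * g' = (g' * y * g'⁻¹) * g' := by rw [hfy]
      _ = g' * y := by group
  have haT : a ∈ T := (hT a).mpr ⟨fun h => by simp [h] at ha2, ha⟩
  have hbT : b ∈ T := (hT b).mpr ⟨hb1, hb⟩
  have h3 : ({a, φ a, φ (φ a)} : Finset G) = T := by
    apply Finset.eq_of_subset_of_card_le
    · intro z hz
      simp at hz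
      rcases hz with rfl | rfl | rfl
      · exact haT
      · exact hφT _ haT
      · exact hφT _ (hφT _ haT)
    · rw [hTcard, Finset.card_eq_three.mpr
        ⟨a, φ a, φ (φ a), (hnofix a haT).symm, ?_, (hnofix _ (hφT _ haT)).symm, rfl⟩]
      intro h
      have hev : ∀ j, φ^[2 * j] a = a := by
        intro j
        rw [Function.iterate_mul]
        exact Function.IsFixedPt.iterate (show φ^[2] a = a from h.symm) j
      obtain ⟨j, hj⟩ := hmodd
      have h5 : φ^[m] a = a := by rw [hpow, hg'm]; simp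
      rw [hj, ← Nat.succ_eq_add_one, Function.iterate_succ_apply', hev] at h5
      exact hnofix a haT h5
  rw [← h3] at hbT
  simp at hbT
  rcases hbT with rfl | rfl | rfl
  · exact ⟨ha2, 1, by simp⟩
  · refine ⟨?_, g', rfl⟩
    show orderOf (MulAut.conj g' a) = 2
    rw [MulEquiv.orderOf_eq, ha2]
  · refine ⟨?_, g' * g', by simp [φ, mul_assoc]⟩
    show orderOf (MulAut.conj g' (MulAut.conj g' a)) = 2
    rw [MulEquiv.orderOf_eq, MulEquiv.orderOf_eq, ha2]

theorem localData [IsSimpleGroup G] (P : Sylow 3 G) (hab : IsMulCommutative P)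
    (hN : Nat.card (Subgroup.normalizer ((P : Subgroup G) : Set G)) = 4 * Nat.card P)
    (hC : Nat.card (Subgroup.centralizer (P : Set G)) = 2 * Nat.card P)
    (hTI : Cfsg.IsTISubset (Subgroup.centralizer (P : Set G) : Set G))
    (heven : ∀ H : Subgroup G, H ≠ ⊤ → 2 ∣ Nat.card H → Nat.card H ∣ 4 * Nat.card P) :
    ∃ (C N : Subgroup G) (t : G) (n : ℕ), LocalData C N t n := by
  classical
  haveI : Fact (Nat.Prime 3) := ⟨Nat.prime_three⟩
  haveI : Fact (Nat.Prime 2) := ⟨Nat.prime_two⟩
  haveI := hab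
  have hPcomm : ∀ x ∈ (P : Subgroup G), ∀ y ∈ (P : Subgroup G), x * y = y * x := fun x hx y hy =>
    congrArg Subtype.val (mul_comm' (⟨x, hx⟩ : (P : Subgroup G)) ⟨y, hy⟩)
  set n := Nat.card (P : Subgroup G) with hn
  obtain ⟨a, hna⟩ := P.isPGroup'.exists_card_eq
  set C := Subgroup.centralizer ((P : Subgroup G) : Set G) with hCdef
  set NP := Subgroup.normalizer ((P : Subgroup G) : Set G) with hNP
  have hC' : Nat.card C = 2 * n := hC
  have hN' : Nat.card NP = 4 * n := hN
  have hnodd : Odd n := by rw [hn, hna]; exact Odd.pow (by decide)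
  -- P is nontrivial
  have hP1 : 3 ≤ n := by
    by_contra hlt
    have h1 : n = 1 := by
      rcases Nat.eq_zero_or_pos a with h | h
      · rw [hn, hna, h, pow_zero]
      · have : 3 ^ 1 ≤ 3 ^ a := Nat.pow_le_pow_right (by norm_num) h
        omega
    have hbot : (P : Subgroup G) = ⊥ := Subgroup.card_eq_one.mp h1
    have e1 : NP = ⊤ := by rw [hNP, hbot]; exact Subgroup.normalizer_eq_top_iff.mpr inferInstance
    have e2 : C = ⊤ := by
      rw [hCdef, hbot]
      ext x; simp [Subgroup.mem_centralizer_iff]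
    rw [e1] at hN'; rw [e2] at hC'
    omega
  have hPtop : (P : Subgroup G) ≠ ⊤ := by
    intro h
    have h1 : NP ≤ (P : Subgroup G) := h ▸ le_top
    have := Subgroup.card_le_of_le h1
    omega
  have hnc : ¬ ∀ x y : G, x * y = y * x := by
    intro hh
    haveI : (P : Subgroup G).Normal := ⟨fun x hx g => by rw [hh g x]; simpa using hx⟩
    rcases ‹(P : Subgroup G).Normal›.eq_bot_or_eq_top with h | h
    · rw [hn, h, Subgroup.card_bot] at hP1; omega
    · exact hPtop h
  have hPC : (P : Subgroup G) ≤ C := fun x hx => Subgroup.mem_centralizer_iff.mpr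
    fun y hy => hPcomm y hy x hx
  have hCNP : C ≤ NP := by
    intro c hc
    rw [hNP, Subgroup.mem_normalizer_iff]
    rw [hCdef, Subgroup.mem_centralizer_iff] at hc
    intro x
    constructor
    · intro hx
      rw [← hc x hx]; simpa using hx
    · intro hx
      have := hc _ hx
      have : c * x * c⁻¹ = x := by
        have h2 : c * x * c⁻¹ * c = c * (c * x * c⁻¹) := this
        simp only [inv_mul_cancel_right] at h2
        exact mul_left_cancel h2.symm
      rwa [← this]
  obtain ⟨⟨t, htC⟩, ht⟩ := exists_prime_orderOf_dvd_card' (G := C) 2 ⟨n, hC'⟩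
  rw [Subgroup.orderOf_mk] at ht
  have ht2 : t * t = 1 := mul_self_of_orderOf ht
  have ht1 : t ≠ 1 := fun h => by simp [h] at ht
  have htinv : t⁻¹ = t := inv_eq_of_mul_eq_one_right ht2
  have htP : t ∉ (P : Subgroup G) := fun h => by
    have := (Subgroup.orderOf_mk t h ▸ orderOf_dvd_natCard (⟨t, h⟩ : (P : Subgroup G)))
    rw [ht, ← hn] at this
    exact Nat.not_even_iff_odd.mpr hnodd (even_iff_two_dvd.mpr this)
  have hidxPC : ((P : Subgroup G).subgroupOf C).index = 2 := by
    have h1 := Subgroup.card_mul_index ((P : Subgroup G).subgroupOf C)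
    rw [Nat.card_congr (Subgroup.subgroupOfEquivOfLe hPC).toEquiv, hC', ← hn, mul_comm 2 n] at h1
    exact Nat.eq_of_mul_eq_mul_left (by omega) h1
  have hCdec : ∀ c ∈ C, c ∈ (P : Subgroup G) ∨ c * t ∈ (P : Subgroup G) := by
    intro c hc
    by_cases h : c ∈ (P : Subgroup G)
    · exact Or.inl h
    · refine Or.inr ?_
      have := (Subgroup.mul_mem_iff_of_index_two hidxPC (a := ⟨c, hc⟩) (b := ⟨t, htC⟩)).mpr
        (by simp [Subgroup.mem_subgroupOf, h, htP])
      simpa [Subgroup.mem_subgroupOf] using this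
  have htcomm : ∀ p ∈ (P : Subgroup G), p * t = t * p := fun p hp =>
    Subgroup.mem_centralizer_iff.mp htC p hp
  have hCcomm : ∀ x ∈ C, ∀ y ∈ C, x * y = y * x := by
    intro x hx y hy
    have hPy : ∀ p ∈ (P : Subgroup G), p * y = y * p := fun p hp =>
      Subgroup.mem_centralizer_iff.mp hy p hp
    have hty : t * y = y * t := by
      rcases hCdec y hy with h | h
      · exact (htcomm y h).symm
      · have h2 := htcomm _ h
        calc t * y = t * (y * t) * t⁻¹ := by group
          _ = (y * t) * t * t⁻¹ := by rw [h2]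
          _ = y * t := by group
    rcases hCdec x hx with h | h
    · exact hPy x h
    · have hx' : x = (x * t) * t := by rw [mul_assoc, ht2, mul_one]
      rw [hx', mul_assoc, hty, ← mul_assoc, hPy _ h, mul_assoc]
  have hPodd : ∀ x ∈ (P : Subgroup G), x * x = 1 → x = 1 := by
    intro x hx hxx
    by_contra h1
    have h2 := orderOf_two hxx h1
    have := (Subgroup.orderOf_mk x hx ▸ orderOf_dvd_natCard (⟨x, hx⟩ : (P : Subgroup G)))
    rw [h2, ← hn] at this
    exact Nat.not_even_iff_odd.mpr hnodd (even_iff_two_dvd.mpr this)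
  have hinv2 : ∀ x ∈ C, x * x = 1 → x = 1 ∨ x = t := by
    intro x hx hxx
    rcases hCdec x hx with h | h
    · exact Or.inl (hPodd x h hxx)
    · refine Or.inr ?_
      have : (x * t) * (x * t) = 1 := by
        rw [mul_assoc, ← mul_assoc t x t, hCcomm t htC x hx, mul_assoc x t t, ht2, mul_one, hxx]
      have h3 := hPodd _ h this
      rw [← htinv]
      exact eq_inv_of_mul_eq_one_left h3
  have hCsq : ∀ x ∈ C, x * x ∈ (P : Subgroup G) := by
    intro x hx
    have := Subgroup.mul_self_mem_of_index_two hidxPC ⟨x, hx⟩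
    simpa [Subgroup.mem_subgroupOf] using this
  -- elements of C of order dividing n lie in P
  have hCtoP : ∀ x ∈ C, x ^ n = 1 → x ∈ (P : Subgroup G) := by
    intro x hx hxn
    obtain ⟨k, hk⟩ := hnodd
    have : x = ((x * x) ^ k)⁻¹ := by
      rw [← sq, ← pow_mul]
      apply eq_inv_of_mul_eq_one_left
      rw [← pow_succ', ← hk]; exact hxn
    rw [this]
    exact inv_mem (pow_mem (hCsq x hx) k)
  have hPpow : ∀ x ∈ (P : Subgroup G), x ^ n = 1 := fun x hx => by
    have := pow_card_eq_one' (x := (⟨x, hx⟩ : (P : Subgroup G)))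
    exact congrArg Subtype.val this
  -- C(t)
  set N := Subgroup.centralizer ({t} : Set G) with hNdef
  have memN : ∀ x, x ∈ N ↔ x * t = t * x := fun x => Subgroup.mem_centralizer_singleton_iff
  have hCN : C ≤ N := fun x hx => (memN x).mpr (hCcomm x hx t htC)
  have hNtop : N ≠ ⊤ := by
    intro h
    haveI : (Subgroup.zpowers t).Normal := ⟨fun x hx g => by
      obtain ⟨j, rfl⟩ := Subgroup.mem_zpowers_iff.mp hx
      have hg : g * t = t * g := (memN g).mp (h ▸ Subgroup.mem_top g)
      rw [show g * t ^ j * g⁻¹ = (g * t * g⁻¹) ^ j from conj_zpow.symm, hg]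
      simp only [mul_inv_cancel_right]
      exact hx⟩
    rcases ‹(Subgroup.zpowers t).Normal›.eq_bot_or_eq_top with h' | h'
    · exact ht1 (Subgroup.zpowers_eq_bot.mp h')
    · have h2 := congrArg (fun K : Subgroup G => Nat.card K) h'
      simp only [Nat.card_zpowers, ht, Subgroup.card_top] at h2
      have := Subgroup.card_subgroup_dvd_card (P : Subgroup G)
      rw [← h2] at this
      have := Nat.le_of_dvd (by norm_num) this
      omega
  have h2C : 2 ∣ Nat.card N := (Dvd.intro n hC'.symm).trans (Subgroup.card_dvd_of_le hCN)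
  have hNdvd : Nat.card N ∣ 4 * n := heven N hNtop h2C
  -- a Sylow 2-subgroup containing t
  obtain ⟨S, hS⟩ := IsPGroup.exists_le_sylow (p := 2) (P := Subgroup.zpowers t)
    (IsPGroup.of_card (n := 1) (by rw [Nat.card_zpowers, ht, pow_one]))
  have htS : t ∈ (S : Subgroup G) := hS (Subgroup.mem_zpowers t)
  obtain ⟨k, hk⟩ := S.isPGroup'.exists_card_eq
  have h4G : 4 ∣ Nat.card G := (Dvd.intro n hN'.symm).trans (Subgroup.card_subgroup_dvd_card NP)
  have hkge : 2 ≤ k := by
    have h := Sylow.card_eq_multiplicity S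
    rw [hk] at h
    have h2 := Nat.pow_right_injective (le_refl 2) h
    rw [h2]
    exact (Nat.Prime.pow_dvd_iff_le_factorization Nat.prime_two Nat.card_pos.ne').mp h4G
  have hStop : (S : Subgroup G) ≠ ⊤ := by
    intro h
    have h2 : (P : Subgroup G) ≤ (S : Subgroup G) := h ▸ le_top
    have h3 := Subgroup.card_dvd_of_le h2
    rw [hk] at h3
    have : n ∣ 2 ^ k := h3
    obtain ⟨j, -, hj⟩ := (Nat.dvd_prime_pow Nat.prime_two).mp this
    rcases Nat.eq_zero_or_pos j with h0 | h0
    · subst h0; simp at hj; omega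
    · apply Nat.not_even_iff_odd.mpr hnodd
      rw [hj]; exact (Nat.even_pow).mpr ⟨by decide, by omega⟩
  have hS4 : Nat.card (S : Subgroup G) = 4 := by
    have h := heven (S : Subgroup G) hStop (by rw [hk]; exact dvd_pow_self 2 (by omega))
    rw [hk] at h ⊢
    have hco : Nat.Coprime (2 ^ k) n :=
      Nat.Coprime.pow_left k ((Nat.Prime.coprime_iff_not_dvd Nat.prime_two).mpr
        (fun hd => Nat.not_even_iff_odd.mpr hnodd (even_iff_two_dvd.mpr hd)))
    have h' := Nat.le_of_dvd (by norm_num) (hco.dvd_of_dvd_mul_right h)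
    have : 2 ^ 2 ≤ 2 ^ k := Nat.pow_le_pow_right (by norm_num) hkge
    norm_num at this
    omega
  have hSN : (S : Subgroup G) ≤ N := fun x hx => (memN x).mpr (by
    have h := (IsPGroup.isMulCommutative_of_card_eq_prime_sq (p := 2) (G := (S : Subgroup G))
      (by rw [hS4]; norm_num)).is_comm.comm ⟨x, hx⟩ ⟨t, htS⟩
    exact congrArg Subtype.val h)
  have hcardN : Nat.card N = 4 * n := by
    refine Nat.dvd_antisymm hNdvd ?_
    apply Nat.Coprime.mul_dvd_of_dvd_of_dvd
    · exact Nat.Coprime.pow_left 2 ((Nat.Prime.coprime_iff_not_dvd Nat.prime_two).mpr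
        (fun hd => Nat.not_even_iff_odd.mpr hnodd (even_iff_two_dvd.mpr hd)))
    · have := Subgroup.card_dvd_of_le hSN; rwa [hS4] at this
    · exact (Dvd.intro_left 2 hC'.symm).trans (Subgroup.card_dvd_of_le hCN)
  have hidxCN : (C.subgroupOf N).index = 2 := by
    have h1 := Subgroup.card_mul_index (C.subgroupOf N)
    rw [Nat.card_congr (Subgroup.subgroupOfEquivOfLe hCN).toEquiv, hC', hcardN,
      show 4 * n = 2 * n * 2 by ring] at h1
    exact Nat.eq_of_mul_eq_mul_left (by omega) h1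
  haveI hCnorm : (C.subgroupOf N).Normal := Subgroup.normal_of_index_eq_two hidxCN
  have hNnormC : ∀ u ∈ N, ∀ x ∈ C, u * x * u⁻¹ ∈ C := fun u hu x hx => by
    have := hCnorm.conj_mem ⟨x, hCN hx⟩ (Subgroup.mem_subgroupOf.mpr hx) ⟨u, hu⟩
    simpa [Subgroup.mem_subgroupOf] using this
  have hNnormP : ∀ u ∈ N, ∀ x ∈ (P : Subgroup G), u * x * u⁻¹ ∈ (P : Subgroup G) :=
    fun u hu x hx => hCtoP _ (hNnormC u hu x (hPC hx)) (by rw [conj_pow, hPpow x hx]; simp)
  have hTI' : ∀ g x : G, x ∈ C → x ≠ 1 → g * x * g⁻¹ ∈ C → g ∈ N := by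
    intro g x hx hx1 hgx
    by_contra hg
    have hgn : g ∉ Subgroup.normalizer (C : Set G) := by
      intro h
      apply hg
      have h2 : g * t * g⁻¹ ∈ C := (Subgroup.mem_normalizer_iff.mp h t).mp htC
      have h3 : g * t * g⁻¹ * (g * t * g⁻¹) = 1 := by
        rw [show g * t * g⁻¹ * (g * t * g⁻¹) = g * (t * t) * g⁻¹ by group, ht2]; simp
      rcases hinv2 _ h2 h3 with h4 | h4
      · exact absurd (conj_eq_one_iff.mp h4) ht1
      · rw [memN]
        calc g * t = g * t * g⁻¹ * g := by group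
          _ = t * g := by rw [h4]
    exact hx1 (hTI g hgn x hx hgx)
  -- an element of S outside C
  obtain ⟨s, hsS, hsC⟩ : ∃ s ∈ (S : Subgroup G), s ∉ C := by
    by_contra h
    push Not at h
    have := Subgroup.card_dvd_of_le (show (S : Subgroup G) ≤ C from h)
    rw [hS4, hC'] at this
    obtain ⟨j, hj⟩ := hnodd
    obtain ⟨c, hc⟩ := this
    omega
  have hs1 : s ≠ 1 := fun h => hsC (h ▸ C.one_mem)
  obtain ⟨hso, g₀, hg₀⟩ := sylow_four_data hnc S hS4 t s htS hsS ht hs1
  have hsN : s ∈ N := hSN hsS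
  have hs2 : s * s = 1 := mul_self_of_orderOf hso
  have hsinv : s⁻¹ = s := inv_eq_of_mul_eq_one_right hs2
  -- s has no fixed point in P
  have hfree : ∀ u ∈ (P : Subgroup G), s * u = u * s → u = 1 := by
    intro u hu hsu
    by_contra hu1
    set u' := g₀⁻¹ * u * g₀ with hu'
    have hu'N : u' ∈ N := by
      rw [memN, hu']
      have e : t = g₀⁻¹ * s * g₀ := by rw [← hg₀]; group
      rw [e]
      calc g₀⁻¹ * u * g₀ * (g₀⁻¹ * s * g₀) = g₀⁻¹ * (u * s) * g₀ := by group
        _ = g₀⁻¹ * (s * u) * g₀ := by rw [hsu]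
        _ = g₀⁻¹ * s * g₀ * (g₀⁻¹ * u * g₀) := by group
    have hu'n : u' ^ n = 1 := by
      have := conj_pow (i := n) (a := g₀⁻¹) (b := u)
      rw [inv_inv, hPpow u hu] at this
      rw [hu', this]; simp
    have hu'C : u' ∈ C := by
      obtain ⟨j, hj⟩ := hnodd
      have h2 : u' * u' ∈ C := by
        have := Subgroup.mul_self_mem_of_index_two hidxCN ⟨u', hu'N⟩
        simpa [Subgroup.mem_subgroupOf] using this
      have : u' = ((u' * u') ^ j)⁻¹ := by
        rw [← sq, ← pow_mul]
        apply eq_inv_of_mul_eq_one_left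
        rw [← pow_succ', ← hj]; exact hu'n
      rw [this]; exact inv_mem (pow_mem h2 j)
    have hu'1 : u' ≠ 1 := fun h => hu1 (by
      rw [hu'] at h
      have : u = g₀ * (g₀⁻¹ * u * g₀) * g₀⁻¹ := by group
      rw [h] at this; simpa using this)
    have hback : g₀ * u' * g₀⁻¹ = u := by rw [hu']; group
    have hg₀N := hTI' g₀ u' hu'C hu'1 (hback ▸ hPC hu)
    apply hsC
    have : s = t := by rw [← hg₀, (memN g₀).mp hg₀N]; group
    rw [this]; exact htC
  have hsinvP : ∀ p ∈ (P : Subgroup G), s * p * s⁻¹ = p⁻¹ := by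
    intro p hp
    have hp' := hNnormP s hsN p hp
    have hc := hPcomm p hp _ hp'
    have h := hfree (p * (s * p * s⁻¹)) (mul_mem hp hp') (by
      have e : s⁻¹ * p * s = s * p * s⁻¹ := by rw [hsinv]
      calc s * (p * (s * p * s⁻¹)) = (s * p * s⁻¹) * (s * (s⁻¹ * p * s) * s⁻¹) * s := by
            rw [e]; group
        _ = (s * p * s⁻¹) * p * s := by group
        _ = p * (s * p * s⁻¹) * s := by rw [hc])
    exact eq_inv_of_mul_eq_one_right h
  have hsinvC : ∀ x ∈ C, s * x * s⁻¹ = x⁻¹ := by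
    intro x hx
    rcases hCdec x hx with h | h
    · exact hsinvP x h
    · have e := hsinvP _ h
      have hst : s * t * s⁻¹ = t := by rw [(memN s).mp hsN]; group
      calc s * x * s⁻¹ = (s * (x * t) * s⁻¹) * (s * t * s⁻¹)⁻¹ := by group
        _ = (x * t)⁻¹ * t⁻¹ := by rw [e, hst]
        _ = t⁻¹ * (x⁻¹ * t⁻¹) := by group
        _ = t⁻¹ * (t⁻¹ * x⁻¹) := by rw [← mul_inv_rev x t, ← mul_inv_rev t x, hCcomm x hx t htC]
        _ = x⁻¹ := by rw [htinv, ← mul_assoc, ht2, one_mul]
  have hallconj : ∀ y : G, orderOf y = 2 → IsConj t y := by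
    intro y hy
    obtain ⟨T, hT⟩ := IsPGroup.exists_le_sylow (p := 2) (P := Subgroup.zpowers y)
      (IsPGroup.of_card (n := 1) (by rw [Nat.card_zpowers, hy, pow_one]))
    obtain ⟨g, hg⟩ := MulAction.exists_smul_eq G T S
    have hyS : g * y * g⁻¹ ∈ (S : Subgroup G) := by
      rw [← hg, Sylow.coe_subgroup_smul]
      exact ⟨y, hT (Subgroup.mem_zpowers y), rfl⟩
    have hy1 : g * y * g⁻¹ ≠ 1 := fun h => by
      rw [conj_eq_one_iff] at h; simp [h] at hy
    obtain ⟨-, g₁, hg₁⟩ := sylow_four_data hnc S hS4 t _ htS hyS ht hy1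
    exact (isConj_iff.mpr ⟨g₁, hg₁⟩).trans (isConj_iff.mpr ⟨g⁻¹, by group⟩)
  have houtinv : ∀ u ∈ N, u ∉ C → ∀ x ∈ C, u * x * u⁻¹ = x⁻¹ := by
    intro u hu huC x hx
    have hc : s⁻¹ * u ∈ C := by
      have := (Subgroup.mul_mem_iff_of_index_two hidxCN (a := ⟨s, hsN⟩⁻¹) (b := ⟨u, hu⟩)).mpr
        (by simp [Subgroup.mem_subgroupOf, hsC, huC])
      simpa [Subgroup.mem_subgroupOf] using this
    have e : (s⁻¹ * u) * x * (s⁻¹ * u)⁻¹ = x := by rw [hCcomm _ hc x hx]; group
    calc u * x * u⁻¹ = s * ((s⁻¹ * u) * x * (s⁻¹ * u)⁻¹) * s⁻¹ := by group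
      _ = x⁻¹ := by rw [e, hsinvC x hx]
  have hout : ∀ u ∈ N, u ∉ C → u * u = 1 ∧ IsConj t u := by
    intro u hu huC
    have hc : s⁻¹ * u ∈ C := by
      have := (Subgroup.mul_mem_iff_of_index_two hidxCN (a := ⟨s, hsN⟩⁻¹) (b := ⟨u, hu⟩)).mpr
        (by simp [Subgroup.mem_subgroupOf, hsC, huC])
      simpa [Subgroup.mem_subgroupOf] using this
    have e := hsinvC _ hc
    have h2 : u * u = 1 := by
      rw [hsinv] at e hc
      calc u * u = (s * (s * u) * s) * (s * u) := by
            simp [mul_assoc, ← mul_assoc s s, hs2]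
        _ = 1 := by rw [e, inv_mul_cancel]
    exact ⟨h2, hallconj u (orderOf_two h2 fun h => huC (h ▸ C.one_mem))⟩
  have hcont : ∀ y : G, y ^ n = 1 → ∃ g : G, g⁻¹ * y * g ∈ C := by
    intro y hy
    have hdvd : orderOf y ∣ 3 ^ a := hna ▸ orderOf_dvd_of_pow_eq_one hy
    obtain ⟨j, -, hj⟩ := (Nat.dvd_prime_pow Nat.prime_three).mp hdvd
    obtain ⟨Q, hQ⟩ := IsPGroup.exists_le_sylow (p := 3) (P := Subgroup.zpowers y)
      (IsPGroup.of_card (n := j) (by rw [Nat.card_zpowers, hj]))
    obtain ⟨g, hg⟩ := MulAction.exists_smul_eq G Q P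
    refine ⟨g⁻¹, hPC ?_⟩
    rw [inv_inv, ← hg, Sylow.coe_subgroup_smul]
    exact ⟨y, hQ (Subgroup.mem_zpowers y), rfl⟩
  exact ⟨C, N, t, n, hP1, ⟨a, hna⟩, hC', hcardN, hCN, rfl, htC, ht, hCcomm, hinv2, hout, houtinv,
    hallconj, hTI', hcont, heven, hnc⟩

end CfsgLib.Base.TI3
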